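import Groth.Agent.H45.GRO_VAL
import Groth.Agent.H45.GRO_C1a
import Groth.Agent.H45.GRO_C1b
import Groth.Agent.H45.GRO_C2
import Groth.Agent.S2567
import Groth.Agent.S1301
import Groth.Agent.S9735

/-!
# Openness of the geometrically reduced fibre locus for flat proper f.p. morphisms (assembly)
-/

set_option autoImplicit false
set_option linter.style.haveILetI false
universe u
open CategoryTheory CategoryTheory.Limits AlgebraicGeometry

namespace Groth.Agent.H11.GRO

/-- A locally constructible subset of a scheme which is stable under generization is open.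
(Copy of `Groth.Agent.H38.FibreDimLSC.isOpen_of_isLocallyConstructible_of_stableUnderGeneralization`,
to avoid its heavy imports.) -/
theorem isOpen_of_isLocallyConstructible_of_stableUnderGeneralization {S : Scheme.{u}} {E : Set S}
    (hE : Topology.IsLocallyConstructible E) (hs : StableUnderGeneralization E) : IsOpen E := by
  rw [isOpen_iff_forall_mem_open]
  intro x hx
  obtain ⟨V, hV, hxV, -⟩ := exists_isAffineOpen_mem_and_subset (X := S) (x := x) (U := ⊤) trivial
  have hj : Topology.IsOpenEmbedding hV.fromSpec.base := hV.fromSpec.isOpenEmbedding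
  have hE' : Topology.IsConstructible (hV.fromSpec.base ⁻¹' E) :=
    (hE.preimage_of_isOpenEmbedding hj).isConstructible
  have hs' : StableUnderGeneralization (hV.fromSpec.base ⁻¹' E) :=
    fun y y' hyy' hy => hs (hyy'.map hV.fromSpec.continuous) hy
  have hopen : IsOpen (hV.fromSpec.base ⁻¹' E) :=
    PrimeSpectrum.isOpen_of_stableUnderGeneralization_of_isConstructible hs' hE'
  refine ⟨hV.fromSpec.base '' (hV.fromSpec.base ⁻¹' E), Set.image_preimage_subset _ _,
    hj.isOpenMap _ hopen, ?_⟩
  have : x ∈ Set.range hV.fromSpec.base := by rw [hV.range_fromSpec]; exact hxV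
  obtain ⟨y, rfl⟩ := this
  exact ⟨y, hx, rfl⟩

/-- A scheme flat, proper and of finite presentation over a local domain whose closed fibre is
geometrically reduced is reduced. -/
theorem isReduced_of_closedFibre {V : Type u} [CommRing V] [IsDomain V] [IsLocalRing V]
    {Z : Scheme.{u}} (h : Z ⟶ Spec (CommRingCat.of V)) [Flat h] [IsProper h]
    [LocallyOfFinitePresentation h]
    (hs : GeometricallyReduced (h.fiberToSpecResidueField (IsLocalRing.closedPoint V))) :
    IsReduced Z := by
  refine Groth.Agent.H45.GRO_C1b.isReduced_of_isReduced_stalk_closedFibre h h.isClosedMap (fun z hz => ?_)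
  have hx := Groth.Agent.H45.GRO_C1a.isGeomReducedAt_of_geometricallyReduced h _ hs z hz
  have hy : FBase.IsReducedAt (Spec (CommRingCat.of V)) (h.base z) := by
    show _root_.IsReduced ((Spec (CommRingCat.of V)).presheaf.stalk (h.base z))
    infer_instance
  exact Groth.Agent.S2567.result h z hy hx

set_option maxHeartbeats 800000 in
/-- Stability under generization of the geometrically reduced fibre locus. -/
theorem stable {X Y : Scheme.{u}} (f : X ⟶ Y) [Flat f] [IsProper f]
    [LocallyOfFinitePresentation f] :
    StableUnderGeneralization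
      {y : ↑Y | GeometricallyReduced (f.fiberToSpecResidueField y)} := by
  intro y y' hyy hy
  show GeometricallyReduced (f.fiberToSpecResidueField y')
  rw [geometricallyReduced_iff]
  intro K _ t₀ W fst snd hW
  -- the big square over `Y`
  have hfib : IsPullback (f.fiberι y') (f.fiberToSpecResidueField y') f
      (Y.fromSpecResidueField y') := IsPullback.of_hasPullback _ _
  have hbig : IsPullback (fst ≫ f.fiberι y') snd f (t₀ ≫ Y.fromSpecResidueField y') :=
    hW.paste_horiz hfib
  have ht : ∀ z : Spec (CommRingCat.of K), (t₀ ≫ Y.fromSpecResidueField y').base z = y' := by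
    intro z
    rw [Scheme.Hom.comp_base, TopCat.comp_app]
    exact Scheme.fromSpecResidueField_apply _ _
  obtain ⟨V, _, _, _, _, _, g, hg1, hg2⟩ :=
    Groth.Agent.H45.GRO_VAL.exists_valuationRing_extension hyy K (t₀ ≫ Y.fromSpecResidueField y') ht
  -- base change to `Spec V`
  have hsq : IsPullback (pullback.fst f g) (pullback.snd f g) f g := IsPullback.of_hasPullback _ _
  have hs : GeometricallyReduced
      ((pullback.snd f g).fiberToSpecResidueField (IsLocalRing.closedPoint V)) := by
    have h1 := Groth.Agent.S9735.result f g (pullback.snd f g) (pullback.fst f g) hsq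
    have h2 : IsLocalRing.closedPoint V ∈ g.base ⁻¹'
        {y : ↑Y | GeometricallyReduced (f.fiberToSpecResidueField y)} := by
      show g.base (IsLocalRing.closedPoint V) ∈
        {y : ↑Y | GeometricallyReduced (f.fiberToSpecResidueField y)}
      rw [hg2]
      exact hy
    rw [← h1] at h2
    exact h2
  haveI : IsReduced (pullback f g) := isReduced_of_closedFibre (pullback.snd f g) hs
  haveI : IsReduced (pullback (pullback.snd f g)
      (Spec.map (CommRingCat.ofHom (algebraMap V K)))) :=
    Groth.Agent.H45.GRO_C2.isReduced_pullback_fractionRing K (pullback.snd f g)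
  -- `W` is that pullback
  rw [← hg1] at hbig
  have hleft := IsPullback.of_right' hbig hsq
  have e := hleft.isoPullback
  exact isReduced_of_isOpenImmersion e.hom

/-- **S0435.** -/
theorem isOpen_geometricallyReduced_locus {X Y : Scheme.{u}} (f : X ⟶ Y) [Flat f] [IsProper f]
    [LocallyOfFinitePresentation f] :
    IsOpen {y : ↑Y | GeometricallyReduced (f.fiberToSpecResidueField y)} :=
  isOpen_of_isLocallyConstructible_of_stableUnderGeneralization (Groth.Agent.S1301.result f)
    (stable f)

end Groth.Agent.H11.GRO
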